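import Cfsg.Agent.HeRecog.M8a.BB47Idx.Defs

/-! Generated: kernel checks. -/

set_option autoImplicit false
set_option maxRecDepth 100000
set_option Elab.async false

namespace Cfsg.Agent.HeRecog.M8a.BB47Idx

open Cfsg.Agent.CosetCert

theorem logAt200000 : allFrom (data.checkLog) 200000 2500 = true := by decide +kernel

theorem logAt202500 : allFrom (data.checkLog) 202500 2500 = true := by decide +kernel

theorem logAt205000 : allFrom (data.checkLog) 205000 2500 = true := by decide +kernel

theorem logAt207500 : allFrom (data.checkLog) 207500 2500 = true := by decide +kernel

theorem logAt210000 : allFrom (data.checkLog) 210000 2500 = true := by decide +kernel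

theorem logAt212500 : allFrom (data.checkLog) 212500 2500 = true := by decide +kernel

theorem logAt215000 : allFrom (data.checkLog) 215000 2500 = true := by decide +kernel

theorem logAt217500 : allFrom (data.checkLog) 217500 2500 = true := by decide +kernel


end Cfsg.Agent.HeRecog.M8a.BB47Idx
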