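import Cfsg.Agent.HeRecog.M8a.BB47Idx.Defs

/-! Generated: kernel checks. -/

set_option autoImplicit false
set_option maxRecDepth 100000
set_option Elab.async false

namespace Cfsg.Agent.HeRecog.M8a.BB47Idx

open Cfsg.Agent.CosetCert

theorem logAt220000 : allFrom (data.checkLog) 220000 2500 = true := by decide +kernel

theorem logAt222500 : allFrom (data.checkLog) 222500 2500 = true := by decide +kernel

theorem logAt225000 : allFrom (data.checkLog) 225000 2500 = true := by decide +kernel

theorem logAt227500 : allFrom (data.checkLog) 227500 2500 = true := by decide +kernel

theorem logAt230000 : allFrom (data.checkLog) 230000 2500 = true := by decide +kernel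

theorem logAt232500 : allFrom (data.checkLog) 232500 2500 = true := by decide +kernel

theorem logAt235000 : allFrom (data.checkLog) 235000 2500 = true := by decide +kernel

theorem logAt237500 : allFrom (data.checkLog) 237500 2500 = true := by decide +kernel


end Cfsg.Agent.HeRecog.M8a.BB47Idx
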