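import Cfsg.Agent.HeRecog.M8a.BB47Idx.Defs

/-! Generated: kernel checks. -/

set_option autoImplicit false
set_option maxRecDepth 100000
set_option Elab.async false

namespace Cfsg.Agent.HeRecog.M8a.BB47Idx

open Cfsg.Agent.CosetCert

theorem logAt280000 : allFrom (data.checkLog) 280000 2500 = true := by decide +kernel

theorem logAt282500 : allFrom (data.checkLog) 282500 2500 = true := by decide +kernel

theorem logAt285000 : allFrom (data.checkLog) 285000 2500 = true := by decide +kernel

theorem logAt287500 : allFrom (data.checkLog) 287500 2500 = true := by decide +kernel

theorem logAt290000 : allFrom (data.checkLog) 290000 2500 = true := by decide +kernel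

theorem logAt292500 : allFrom (data.checkLog) 292500 2500 = true := by decide +kernel

theorem logAt295000 : allFrom (data.checkLog) 295000 2500 = true := by decide +kernel

theorem logAt297500 : allFrom (data.checkLog) 297500 2500 = true := by decide +kernel


end Cfsg.Agent.HeRecog.M8a.BB47Idx
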