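import Cfsg.Agent.HeRecog.M8a.BB47Idx.Defs

/-! Generated: kernel checks. -/

set_option autoImplicit false
set_option maxRecDepth 100000
set_option Elab.async false

namespace Cfsg.Agent.HeRecog.M8a.BB47Idx

open Cfsg.Agent.CosetCert

theorem logAt340000 : allFrom (data.checkLog) 340000 2500 = true := by decide +kernel

theorem logAt342500 : allFrom (data.checkLog) 342500 2500 = true := by decide +kernel

theorem logAt345000 : allFrom (data.checkLog) 345000 2500 = true := by decide +kernel

theorem logAt347500 : allFrom (data.checkLog) 347500 2500 = true := by decide +kernel

theorem logAt350000 : allFrom (data.checkLog) 350000 2500 = true := by decide +kernel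

theorem logAt352500 : allFrom (data.checkLog) 352500 2500 = true := by decide +kernel

theorem logAt355000 : allFrom (data.checkLog) 355000 2500 = true := by decide +kernel

theorem logAt357500 : allFrom (data.checkLog) 357500 2500 = true := by decide +kernel


end Cfsg.Agent.HeRecog.M8a.BB47Idx
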