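import Cfsg.Agent.HeRecog.M8a.BB47Idx.Defs

/-! Generated: kernel checks. -/

set_option autoImplicit false
set_option maxRecDepth 100000
set_option Elab.async false

namespace Cfsg.Agent.HeRecog.M8a.BB47Idx

open Cfsg.Agent.CosetCert

theorem logAt360000 : allFrom (data.checkLog) 360000 2500 = true := by decide +kernel

theorem logAt362500 : allFrom (data.checkLog) 362500 2500 = true := by decide +kernel

theorem logAt365000 : allFrom (data.checkLog) 365000 2500 = true := by decide +kernel

theorem logAt367500 : allFrom (data.checkLog) 367500 2500 = true := by decide +kernel

theorem logAt370000 : allFrom (data.checkLog) 370000 2500 = true := by decide +kernel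

theorem logAt372500 : allFrom (data.checkLog) 372500 2500 = true := by decide +kernel

theorem logAt375000 : allFrom (data.checkLog) 375000 2500 = true := by decide +kernel

theorem logAt377500 : allFrom (data.checkLog) 377500 2500 = true := by decide +kernel


end Cfsg.Agent.HeRecog.M8a.BB47Idx
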