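import Cfsg.Agent.HeRecog.M8a.BB47Idx.Defs

/-! Generated: kernel checks. -/

set_option autoImplicit false
set_option maxRecDepth 100000
set_option Elab.async false

namespace Cfsg.Agent.HeRecog.M8a.BB47Idx

open Cfsg.Agent.CosetCert

theorem logAt60000 : allFrom (data.checkLog) 60000 2500 = true := by decide +kernel

theorem logAt62500 : allFrom (data.checkLog) 62500 2500 = true := by decide +kernel

theorem logAt65000 : allFrom (data.checkLog) 65000 2500 = true := by decide +kernel

theorem logAt67500 : allFrom (data.checkLog) 67500 2500 = true := by decide +kernel

theorem logAt70000 : allFrom (data.checkLog) 70000 2500 = true := by decide +kernel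

theorem logAt72500 : allFrom (data.checkLog) 72500 2500 = true := by decide +kernel

theorem logAt75000 : allFrom (data.checkLog) 75000 2500 = true := by decide +kernel

theorem logAt77500 : allFrom (data.checkLog) 77500 2500 = true := by decide +kernel


end Cfsg.Agent.HeRecog.M8a.BB47Idx
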