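import Cfsg.Agent.HeRecog.M8a.BB47Idx.Defs

/-! Generated: kernel checks. -/

set_option autoImplicit false
set_option maxRecDepth 100000
set_option Elab.async false

namespace Cfsg.Agent.HeRecog.M8a.BB47Idx

open Cfsg.Agent.CosetCert

theorem logAt100000 : allFrom (data.checkLog) 100000 2500 = true := by decide +kernel

theorem logAt102500 : allFrom (data.checkLog) 102500 2500 = true := by decide +kernel

theorem logAt105000 : allFrom (data.checkLog) 105000 2500 = true := by decide +kernel

theorem logAt107500 : allFrom (data.checkLog) 107500 2500 = true := by decide +kernel

theorem logAt110000 : allFrom (data.checkLog) 110000 2500 = true := by decide +kernel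

theorem logAt112500 : allFrom (data.checkLog) 112500 2500 = true := by decide +kernel

theorem logAt115000 : allFrom (data.checkLog) 115000 2500 = true := by decide +kernel

theorem logAt117500 : allFrom (data.checkLog) 117500 2500 = true := by decide +kernel


end Cfsg.Agent.HeRecog.M8a.BB47Idx
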