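import Cfsg.Agent.HeRecog.M8a.BB47Idx.Defs

/-! Generated: kernel checks. -/

set_option autoImplicit false
set_option maxRecDepth 100000
set_option Elab.async false

namespace Cfsg.Agent.HeRecog.M8a.BB47Idx

open Cfsg.Agent.CosetCert

theorem logAt120000 : allFrom (data.checkLog) 120000 2500 = true := by decide +kernel

theorem logAt122500 : allFrom (data.checkLog) 122500 2500 = true := by decide +kernel

theorem logAt125000 : allFrom (data.checkLog) 125000 2500 = true := by decide +kernel

theorem logAt127500 : allFrom (data.checkLog) 127500 2500 = true := by decide +kernel

theorem logAt130000 : allFrom (data.checkLog) 130000 2500 = true := by decide +kernel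

theorem logAt132500 : allFrom (data.checkLog) 132500 2500 = true := by decide +kernel

theorem logAt135000 : allFrom (data.checkLog) 135000 2500 = true := by decide +kernel

theorem logAt137500 : allFrom (data.checkLog) 137500 2500 = true := by decide +kernel


end Cfsg.Agent.HeRecog.M8a.BB47Idx
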