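import Cfsg.Agent.HeRecog.M8a.BB47Idx.Defs

/-! Generated: kernel checks. -/

set_option autoImplicit false
set_option maxRecDepth 100000
set_option Elab.async false

namespace Cfsg.Agent.HeRecog.M8a.BB47Idx

open Cfsg.Agent.CosetCert

theorem logAt240000 : allFrom (data.checkLog) 240000 2500 = true := by decide +kernel

theorem logAt242500 : allFrom (data.checkLog) 242500 2500 = true := by decide +kernel

theorem logAt245000 : allFrom (data.checkLog) 245000 2500 = true := by decide +kernel

theorem logAt247500 : allFrom (data.checkLog) 247500 2500 = true := by decide +kernel

theorem logAt250000 : allFrom (data.checkLog) 250000 2500 = true := by decide +kernel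

theorem logAt252500 : allFrom (data.checkLog) 252500 2500 = true := by decide +kernel

theorem logAt255000 : allFrom (data.checkLog) 255000 2500 = true := by decide +kernel

theorem logAt257500 : allFrom (data.checkLog) 257500 2500 = true := by decide +kernel


end Cfsg.Agent.HeRecog.M8a.BB47Idx
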